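import Groth.Agent.CartanMultLib.Factor
import Groth.Agent.RedRankLib.CommRel
import Groth.Agent.CommSubLib.Main

/-!
# Central subgroups of multiplicative type lie in every maximal torus
-/

set_option autoImplicit false
set_option linter.style.haveILetI false

noncomputable section

universe u

open CategoryTheory CategoryTheory.Limits MonoidalCategory CartesianMonoidalCategory AlgebraicGeometry CoactBr
open scoped MonObj

attribute [-instance] CategoryTheory.Hom.commGroup

namespace Groth.Agent.CartanMult

open HomRep (bcEquiv)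
open MultEq (LE)

attribute [local instance] CoactBr.braidedAlgSpecOf

variable {S : Scheme.{u}}

/-- A group with connected fibre has connected geometric fibre. -/
theorem connectedSpace_geomFibre (G : Over S) [GrpObj G] [LocallyOfFiniteType G.hom] (s : S)
    (h : _root_.IsConnected (G.hom.base ⁻¹' {s})) : ConnectedSpace ↥(Red.geomFibre s G).left := by
  let F : Over (Spec (CommRingCat.of (S.residueField s))) := Red.bc (S.fromSpecResidueField s) G
  haveI : ConnectedSpace F.left := by
    haveI : ConnectedSpace ↥(G.hom.base ⁻¹' {s}) := isConnected_iff_connectedSpace.1 h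
    show ConnectedSpace ↥(G.hom.fiber s)
    exact (G.hom.fiberHomeo s).symm.surjective.connectedSpace (G.hom.fiberHomeo s).symm.continuous
  haveI : LocallyOfFiniteType F.hom := MorphismProperty.pullback_snd (P := @LocallyOfFiniteType) _ _ inferInstance
  haveI := CommSubLib.geometricallyIrreducible_of_connected F
  let a : Spec (CommRingCat.of (AlgebraicClosure (S.residueField s))) ⟶ Spec (CommRingCat.of (S.residueField s)) :=
    Spec.map (CommRingCat.ofHom (algebraMap (S.residueField s) (AlgebraicClosure (S.residueField s))))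
  haveI : IrreducibleSpace ↥(pullback F.hom a) :=
    GeometricallyIrreducible.geometrically_irreducibleSpace (f := F.hom) a _ _ (IsPullback.of_hasPullback F.hom a)
  let e : pullback F.hom a ≅ pullback G.hom (a ≫ S.fromSpecResidueField s) :=
    pullbackLeftPullbackSndIso G.hom (S.fromSpecResidueField s) a
  show ConnectedSpace ↥(pullback G.hom (a ≫ S.fromSpecResidueField s))
  let φ := Scheme.homeoOfIso e
  exact φ.surjective.connectedSpace φ.continuous

/-- Central homomorphisms from groups of multiplicative type factor through maximal tori. -/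
theorem exists_factor_central (G : Over S) [GrpObj G] [Smooth G.hom] [IsAffineHom G.hom]
    (hconn : ∀ s : S, _root_.IsConnected (G.hom.base ⁻¹' {s})) {T : Over S} [GrpObj T] {i : T ⟶ G}
    (hT : Red.IsMaximalTorus i) {H : Over S} [GrpObj H] (hH : SGA3x.IsMultTypeFT H) (u : H ⟶ G) [IsMonHom u]
    (hc : ∀ (X : Over S) (x : X ⟶ H) (g : X ⟶ G), (x ≫ u) * g = g * (x ≫ u)) :
    ∃ w : H ⟶ T, w ≫ i = u := by
  haveI := hT.1; haveI := hT.2.1
  haveI := Transporter.isClosedImmersion_of_mono (RedRank.locally_of_isTorus hT.2.2.1) ‹IsAffineHom G.hom› i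
  have hnhd : ∀ s : S, ∃ U : S.Opens, s ∈ U ∧ LE u i U.ι := fun s => by
    let q := Red.geomPt s
    haveI := RedRank.isAffineHom_bc G q
    haveI : Smooth (Red.bc q G).hom := MorphismProperty.pullback_snd (P := @Smooth) _ _ inferInstance
    haveI : IsAffine (Red.bc q G).left := isAffine_of_isAffineHom (Red.bc q G).hom
    haveI : ConnectedSpace (Red.bc q G).left := connectedSpace_geomFibre G s (hconn s)
    haveI : IsMonHom (M := Red.bc q T) (N := Red.bc q G) ((Over.pullback q).map i) := DiagRep.isMonHom_bc_map q i
    haveI : IsMonHom (M := Red.bc q H) (N := Red.bc q G) ((Over.pullback q).map u) := DiagRep.isMonHom_bc_map q u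
    haveI : Mono ((Over.pullback q).map i) := by
      haveI : (Over.pullback q).IsRightAdjoint := (Over.mapPullbackAdj q).isRightAdjoint
      infer_instance
    have hM : AGF.IsMaxTorus (T := Red.bc q T) (G := Red.bc q G) ((Over.pullback q).map i) :=
      ⟨inferInstance, inferInstance, RedRank.isTorus_bc hT.2.2.1 q,
        fun T' _ j _ _ f hT' hf => hT.2.2.2 s T' j f hT' hf⟩
    obtain ⟨f, hf⟩ := exists_factor_field hM (DescHom.isMultTypeFT_bc hH q) ((Over.pullback q).map u)
      fun X x t => by
        have nat : ∀ {A : Over S} (v : A ⟶ G) (y : X ⟶ Red.bc q A),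
            y ≫ (Over.pullback q).map v = bcEquiv q G X ((bcEquiv q A X).symm y ≫ v) := fun v y => by
          rw [Adjunction.homEquiv_naturality_right, Equiv.apply_symm_apply]
        rw [nat, nat, ← HomRep.bcEquiv_mul, ← HomRep.bcEquiv_mul, hc]
    refine EqNhd.exists_nhd_le (Or.inr inferInstance) hH (RedRank.isMultTypeFT_of_isTorus hT.2.2.1) s
      (RedRank.geomPt_apply s ▸ (MultEq.le_field_iff q).1 (RedRank.le_of_bc_factor u i q f hf)) ?_
    exact (CentLocus.centAt_iff u _).2 fun Y _ _ g h => hc Y h g
  choose U hU hle using hnhd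
  have hall : LE u i (𝟙 S) := MultEq.le_of_family (fun s => (U s).ι) (fun s => inferInstance)
    (fun t => ⟨t, ⟨t, hU t⟩, rfl⟩) fun s => by rw [Category.comp_id]; exact hle s
  obtain ⟨f, hf⟩ := hall H H.hom (Category.comp_id _) (𝟙 H)
  exact ⟨f, hf.trans (Category.id_comp u)⟩

end Groth.Agent.CartanMult
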