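import Groth.Agent.BorelLib.Cartan

/-!
# The diagonal characters of a connected solvable group see every diagonalizable subgroup
-/

set_option autoImplicit false
set_option linter.style.haveILetI false

noncomputable section

universe u

open WithConv
open scoped TensorProduct

namespace Groth.Agent.CartanMult

open Groth.Agent.BorelLib

attribute [local instance] pTop pTopTensor

variable {k : Type u} [Field k] {A : Type u} [CommRing A] [HopfAlgebra k A]

theorem sliceL_coord_comul {M : Type} [CommMonoid M] (m : M) (t : MonoidAlgebra k M) :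
    ComodLib.sliceL ((Finsupp.lapply m).comp (MonoidAlgebra.coeffLinearEquiv k).toLinearMap :
        MonoidAlgebra k M →ₗ[k] k) (CoalgebraStruct.comul (R := k) t) =
      MonoidAlgebra.single m (t.coeff m) := by
  classical
  induction t using MonoidAlgebra.induction_linear with
  | zero => simp
  | add a b ha hb => simp [map_add, ha, hb]
  | single b r =>
    rw [MonoidAlgebra.comul_single]
    simp only [CommSemiring.comul_apply, TensorProduct.map_tmul, ComodLib.sliceL_tmul]
    by_cases hbm : b = m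
    · subst hbm; simp [MonoidAlgebra.smul_single]
    · simp [Ne.symm hbm, hbm]

theorem sliceL_comp_map {V : Type u} [CommRing V] [Algebra k V] (φ : A →ₐ[k] V) (ξ : V →ₗ[k] k) (z : A ⊗[k] A) :
    φ (ComodLib.sliceL (ξ.comp φ.toLinearMap) z) = ComodLib.sliceL ξ (Algebra.TensorProduct.map φ φ z) := by
  induction z using TensorProduct.induction_on with
  | zero => simp
  | add a b ha hb => simp [map_add, ha, hb]
  | tmul a b => simp

variable [IsAlgClosed k] [Algebra.FiniteType k A] [IsReduced A]

/-- The diagonal characters. -/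
theorem exists_chars (hconn : IsPreconnected (Set.univ : Set (Pt k A))) (hsol : IsSol (⊤ : Subgroup (Pt k A))) :
    ∃ (a : ℕ → A) (D : FlagRep (⊤ : Subgroup (Pt k A))), (∀ j, IsGroupLikeElem k (a j)) ∧
      (∀ u ∈ D.U 1, ∀ j, u.ofConv (a j) = 1) ∧
      ∀ (M : Type) [CommGroup M] (φ : A →ₐ[k] MonoidAlgebra k M),
        (∀ z, CoalgebraStruct.comul (R := k) (φ z) = Algebra.TensorProduct.map φ φ (CoalgebraStruct.comul z)) →
        ∀ P : Submonoid M, (∀ j m, (φ (a j)).coeff m ≠ 0 → m ∈ P) → ∀ z m, (φ z).coeff m ≠ 0 → m ∈ P := by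
  classical
  obtain ⟨F, hF⟩ := Algebra.FiniteType.out (R := k) (A := A)
  obtain ⟨W, hW, hFW, hsub⟩ := HopfFF.exists_finite_subcomod (k := k) F
  letI := HopfFF.selfComod (k := k) (A := A)
  let r : RegRep (⊤ : Subgroup (Pt k A)) A :=
    { ρ := fun g => LieKolchinLib.rep A g
      map_one := map_one _
      map_mul := fun g _ h _ => map_mul _ g h
      reg := fun φ v => ⟨ComodLib.coeff (A := A) φ v, fun g => LieKolchinLib.apply_rep φ g v⟩ }
  have hs : r.Stable ⊤ W := fun g _ w hw => by
    obtain ⟨t, ht⟩ := hsub w hw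
    show ComodLib.slice (LieKolchinLib.fn g).ofConv (CoalgebraStruct.comul (R := k) w) ∈ W
    rw [← ht]
    clear ht
    induction t using TensorProduct.induction_on with
    | zero => simp
    | add a b ha hb => rw [map_add, map_add]; exact W.add_mem ha hb
    | tmul a b => simpa using W.smul_mem _ a.2
  obtain ⟨r₁, hr₁⟩ := r.exists_sub hs
  have hfaith : ∀ g, r₁.ρ g = 1 → g = 1 := fun g hg => by
    refine WithConv.ext (AlgHom.ext_of_adjoin_eq_top hF fun a ha => ?_)
    have h1 : r.ρ g a = a := by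
      have := hr₁ g trivial ⟨a, hFW a ha⟩
      rw [hg] at this
      exact this.symm
    have h2 : CoalgebraStruct.counit (R := k) (r.ρ g a) = g.ofConv a := by
      have := LieKolchinLib.apply_rep (A := A) (V := A) (CoalgebraStruct.counit (R := k)) g a
      rwa [ComodLib.coeff_counit] at this
    rw [← h2, h1, AlgHom.convOne_apply]
    simp
  obtain ⟨D, e, he⟩ := exists_flagRep_of r₁ hfaith (K := (⊤ : Subgroup (Pt k A)))
    (by rwa [Subgroup.coe_top]) hsol
  obtain ⟨N, hN⟩ := D.Ftop
  have hex : ∀ j, ∃ a : A, IsGroupLikeElem k a ∧ (D.F (j + 1) ≤ D.F j → a = 1) ∧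
      ∀ x : Pt k A, ∀ v ∈ D.F (j + 1), D.r.ρ x v - x.ofConv a • v ∈ D.F j := by
    intro j
    by_cases hj : D.F (j + 1) ≤ D.F j
    · refine ⟨1, ⟨by simp, by simp [Algebra.TensorProduct.one_def]⟩, fun _ => rfl, fun x v hv => ?_⟩
      exact (D.F j).sub_mem (D.stable trivial (hj hv)) ((D.F j).smul_mem _ (hj hv))
    obtain ⟨v₀, hv₀, hv₀'⟩ := SetLike.not_le_iff_exists.1 hj
    obtain ⟨φ, hφv, hφ⟩ := Submodule.exists_dual_map_eq_bot_of_notMem hv₀' inferInstance
    have hφ' : ∀ w ∈ D.F j, φ w = 0 := fun w hw => by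
      have : φ w ∈ (D.F j).map φ := Submodule.mem_map_of_mem hw
      rwa [hφ, Submodule.mem_bot] at this
    obtain ⟨a, ha⟩ := ((IsReg.const (φ v₀)⁻¹).mul (D.r.reg φ v₀) : IsReg fun x => _)
    have hval : ∀ x : Pt k A, ∀ v ∈ D.F (j + 1), D.r.ρ x v - x.ofConv a • v ∈ D.F j := by
      intro x v hv
      obtain ⟨c, hc⟩ := D.scalar x trivial j
      have : x.ofConv a = c := by
        rw [← ha x]
        have h0 := hφ' _ (hc v₀ hv₀)
        rw [map_sub, map_smul, sub_eq_zero, smul_eq_mul] at h0
        show (φ v₀)⁻¹ * φ (D.r.ρ x v₀) = c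
        rw [h0, mul_comm c, inv_mul_cancel_left₀ hφv]
      rw [this]; exact hc v hv
    have hφval : ∀ x : Pt k A, φ (D.r.ρ x v₀) = x.ofConv a * φ v₀ := fun x => by
      have h0 := hφ' _ (hval x v₀ hv₀)
      rwa [map_sub, map_smul, sub_eq_zero, smul_eq_mul] at h0
    refine ⟨a, isGroupLikeElem_of_mult ?_ fun x y => mul_right_cancel₀ hφv ?_, fun h => absurd h hj, hval⟩
    · refine mul_right_cancel₀ hφv ?_
      rw [← hφval, D.r.map_one, Module.End.one_apply, one_mul]
    · have h0 := hφ' _ (D.stable (g := x) trivial (hval y v₀ hv₀))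
      rw [map_sub, map_smul, map_sub, map_smul, sub_eq_zero, smul_eq_mul, hφval x] at h0
      rw [← hφval, D.r.mul_apply trivial trivial, h0]
      ring
  choose a hagl ha1 ha using hex
  refine ⟨a, D, hagl, fun u hu j => ?_, fun M _ φ hφ P hP => ?_⟩
  · by_cases hj : D.F (j + 1) ≤ D.F j
    · rw [ha1 j hj, map_one]
    obtain ⟨v₀, hv₀, hv₀'⟩ := SetLike.not_le_iff_exists.1 hj
    by_contra hne
    have h1 := hu.2 (j + 1) v₀ hv₀
    rw [Nat.add_sub_cancel, LinearMap.sub_apply, Module.End.one_apply] at h1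
    have h2 := (D.F j).sub_mem h1 (ha j u v₀ hv₀)
    rw [sub_sub_sub_cancel_left] at h2
    have h3 : (u.ofConv (a j) - 1) • v₀ ∈ D.F j := by rwa [sub_smul, one_smul]
    exact hv₀' ((Submodule.smul_mem_iff _ (sub_ne_zero.2 hne)).1 h3)
  have key : ∀ j, ∀ v ∈ D.F j, ∀ m, (φ (e v).1).coeff m ≠ 0 → m ∈ P := by
    intro j
    induction j with
    | zero =>
      intro v hv m hm
      rw [D.F_zero, Submodule.mem_bot] at hv
      simp [hv] at hm
    | succ j ih =>
      intro v hv m hm
      by_contra hmP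
      let ξ : MonoidAlgebra k M →ₗ[k] k := (Finsupp.lapply m).comp (MonoidAlgebra.coeffLinearEquiv k).toLinearMap
      have hξ : ∀ t : MonoidAlgebra k M, ξ t = t.coeff m := fun t => rfl
      let w : A := (e v).1
      let η : A := ComodLib.coeff (A := A) (ξ.comp φ.toLinearMap) w - ξ (φ w) • a j
      have hη : η = 0 := eq_zero_of_forall (k := k) fun x => by
        have h1 : (e (D.r.ρ x v - x.ofConv (a j) • v)).1 = r.ρ x w - x.ofConv (a j) • w := by
          rw [map_sub, map_smul, he, Submodule.coe_sub, Submodule.coe_smul, hr₁ x trivial]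
        have h2 : ξ (φ (r.ρ x w - x.ofConv (a j) • w)) = 0 := by
          rw [← h1, hξ]
          exact not_not.1 fun h => hmP (ih _ (ha j x v hv) m h)
        have h3 := LieKolchinLib.apply_rep (A := A) (V := A) (ξ.comp φ.toLinearMap) x w
        rw [map_sub, map_sub, map_smul, map_smul, smul_eq_mul] at h2
        rw [map_sub, map_smul, ← h3, smul_eq_mul, ← h2]
        simp [r, mul_comm]
      have h4 : φ η = 0 := by rw [hη, map_zero]
      rw [map_sub, map_smul, sub_eq_zero] at h4
      have h5 : φ (ComodLib.coeff (A := A) (ξ.comp φ.toLinearMap) w) = MonoidAlgebra.single m ((φ w).coeff m) := by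
        rw [← sliceL_coord_comul m (φ w), hφ w, ← sliceL_comp_map]
        rfl
      rw [h5] at h4
      have h6 := congrArg (fun t => MonoidAlgebra.coeff t m) h4
      refine hmP (hP j m fun h0 => hm ?_)
      simpa [hξ, h0, MonoidAlgebra.coeff_smul] using h6
  intro z
  let Q : Subalgebra k A :=
    { carrier := {z | ∀ m, (φ z).coeff m ≠ 0 → m ∈ P}
      mul_mem' := by
        intro x y hx hy m hm
        rw [map_mul] at hm
        obtain ⟨m₁, h₁, m₂, h₂, rfl⟩ := Finset.mem_mul.1
          (MonoidAlgebra.support_coeff_mul_subset (φ x) (φ y) (Finsupp.mem_support_iff.2 hm))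
        exact P.mul_mem (hx m₁ (Finsupp.mem_support_iff.1 h₁)) (hy m₂ (Finsupp.mem_support_iff.1 h₂))
      add_mem' := by
        intro x y hx hy m hm
        rw [map_add] at hm
        by_cases hxm : (φ x).coeff m = 0
        · refine hy m fun h => hm ?_
          simp [MonoidAlgebra.coeff_add, hxm, h]
        · exact hx m hxm
      algebraMap_mem' := by
        intro c m hm
        rw [AlgHom.commutes, MonoidAlgebra.coe_algebraMap] at hm
        by_cases h1 : m = 1
        · exact h1 ▸ P.one_mem
        · simp [h1, Ne.symm h1] at hm }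
  suffices h : (⊤ : Subalgebra k A) ≤ Q from h (Algebra.mem_top : z ∈ _)
  rw [← hF, Algebra.adjoin_le_iff]
  intro f hf m hm
  obtain ⟨v, hv⟩ := e.surjective ⟨f, hFW f hf⟩
  refine key N v (by rw [hN]; exact Submodule.mem_top) m ?_
  rwa [hv]

end Groth.Agent.CartanMult
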