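import Groth.Agent.CartanMultLib.Retract
import Groth.Agent.MaxTorusRankLib.Nearby
import Groth.Agent.BorelLib.BaseChange
import Groth.Agent.BorelLib.CentBor
import Groth.Agent.S3006
import Groth.Agent.S3909

/-!
# Subgroups of multiplicative type commuting with a maximal torus lie in it
-/

set_option autoImplicit false
set_option linter.style.haveILetI false
set_option backward.isDefEq.respectTransparency false

noncomputable section

universe u

open CategoryTheory CategoryTheory.Limits MonoidalCategory CartesianMonoidalCategory AlgebraicGeometry CoactBr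
open scoped MonObj TensorProduct

attribute [-instance] CategoryTheory.Hom.commGroup

namespace Groth.Agent.CartanMult

open Groth.Agent.RedRank (Has)

attribute [local instance] CoactBr.braidedAlgSpecOf

set_option backward.isDefEq.respectTransparency true in
theorem isMonHom_pullbackId {S : Scheme.{u}} (G : Over S) [GrpObj G] :
    IsMonHom (M := Red.bc (𝟙 S) G) (N := G) ((Over.pullbackId (X := S)).app G).hom := by
  have h := RedCharZeroLib.isMonHom_natApp (Over.pullbackId (X := S)).hom G
  refine { one_hom := ?_, mul_hom := ?_ }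
  · have := h.one_hom
    simpa [Functor.obj.η_def] using this
  · have := h.mul_hom
    simpa [Functor.obj.μ_def] using this

set_option backward.isDefEq.respectTransparency true in
theorem exists_bc_id {S : Scheme.{u}} (G : Over S) [GrpObj G] :
    ∃ e : Red.bc (𝟙 S) G ≅ G, IsMonHom e.hom :=
  ⟨(Over.pullbackId (X := S)).app G, isMonHom_pullbackId G⟩

variable {k : Type u} [Field k] [IsAlgClosed k]

/-- A group of multiplicative type and finite type over an algebraically closed field is diagonalisable. -/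
theorem exists_diag_of_multType {H : Over (Spec (CommRingCat.of k))} [GrpObj H] (hH : SGA3x.IsMultTypeFT H) :
    ∃ (M : Type) (_ : AddCommGroup M) (v : sp k (MonoidAlgebra k (Multiplicative M)) ≅ H),
      IsMonHom v.hom ∧ IsMonHom v.inv ∧ AddGroup.FG M := by
  obtain ⟨S', f, -, hfs, -, hloc⟩ := hH
  obtain ⟨s', -⟩ := hfs.surj (IsLocalRing.closedPoint k)
  obtain ⟨U, hU, M, _, hM, ⟨e⟩⟩ := hloc s'
  haveI : Module.Finite ℤ M := Module.Finite.iff_addGroup_fg.2 hM
  let u : U.toScheme := ⟨s', hU⟩
  let L : Type u := U.toScheme.residueField u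
  let g : Spec (CommRingCat.of L) ⟶ U.toScheme := U.toScheme.fromSpecResidueField u
  letI : Algebra k L := (Spec.preimage (g ≫ U.ι ≫ f)).hom.toAlgebra
  have hh : Spec.map (CommRingCat.ofHom (algebraMap k L)) = g ≫ U.ι ≫ f := Spec.map_preimage _
  have hsplit : Red.IsSplitTorusWith M (Red.bc (DiagRep.baseHom k L) H) := by
    show Red.IsSplitTorusWith M (Red.bc (Spec.map (CommRingCat.ofHom (algebraMap k L))) H)
    rw [hh]
    obtain ⟨ψ, h1, h2⟩ := RedCharZeroLib.exists_split_at g (U.ι ≫ f) H _ e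
    haveI := h1; haveI := h2
    exact ⟨Grp.mkIso (asIso ψ) (IsMonHom.one_hom ψ) (IsMonHom.mul_hom ψ)⟩
  obtain ⟨A, _, _, v, hv, hv', ⟨E⟩⟩ := TorusField.exists_torus_rep H k ⟨L, inferInstance, inferInstance, hsplit⟩
  let ld : k ⊗[k] A ≃ₐ[k] A := Algebra.TensorProduct.lid k A
  have hld : ∀ x, E.e x = (1 : k) ⊗ₜ[k] ld (E.e x) := fun x => by
    conv_lhs => rw [← ld.symm_apply_apply (E.e x)]
    rfl
  have h2 : ∀ x, CoalgebraStruct.comul (R := k) (ld (E.e x)) = ld (E.e x) ⊗ₜ[k] ld (E.e x) := fun x => by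
    have h := (E.gl x).1
    rw [hld x] at h
    have h' := congrArg (Algebra.TensorProduct.lid k (A ⊗[k] A)) h
    simpa [TorusField.D, TorusField.J₁, TorusField.J₂, Algebra.TensorProduct.tmul_mul_tmul] using h'
  have h3 : ∀ x, CoalgebraStruct.counit (R := k) (ld (E.e x)) = 1 := fun x => by
    have h := (E.gl x).2
    rw [hld x] at h
    simpa [TorusField.ev1] using h
  let B : DiagRep.GLBasis k M A := ⟨E.e.map ld.toLinearEquiv,
    by rw [Module.Basis.map_apply, E.e_zero]; exact map_one ld,
    fun a b => by simp only [Module.Basis.map_apply, E.e_add]; exact (map_mul ld _ _).symm,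
    fun a => by rw [Module.Basis.map_apply]; exact h2 a, fun a => by rw [Module.Basis.map_apply]; exact h3 a⟩
  obtain ⟨w, hw, hw'⟩ := TorusField.exists_iso_of_basis B (DiagRep.monoidAlgebraBasis k M)
  refine ⟨M, inferInstance, w ≪≫ v, ?_, ?_, hM⟩
  · dsimp only [Iso.trans_hom]; infer_instance
  · dsimp only [Iso.trans_inv]; infer_instance

/-- Tori are commutative on points. -/
theorem mul_comm_torus {T X : Over (Spec (CommRingCat.of k))} [GrpObj T] (hT : Red.IsTorus T) (a b : X ⟶ T) :
    a * b = b * a := by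
  obtain ⟨r, v, hv, hv', -⟩ := RedRank.exists_torus_rank hT
  obtain ⟨w, hw, hw'⟩ := TorusField.exists_DS_iso k (Fin r → ℤ)
  haveI := hv; haveI := hv'; haveI := hw; haveI := hw'
  refine (cancel_mono (v.inv ≫ w.hom)).1 ?_
  rw [MonObj.mul_comp, MonObj.mul_comp, mul_comm]

variable {G T : Over (Spec (CommRingCat.of k))} [GrpObj G] [GrpObj T] [IsAffine G.left] [Smooth G.hom]

/-- Every rank occurring in the group occurs in a maximal torus. -/
theorem has_of_maxTorus {iT : T ⟶ G} (hT : AGF.IsMaxTorus iT) {m : ℕ} (hm : Has G m) : Has T m := by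
  obtain ⟨i, hi, him⟩ := (RedRank.has_iff G m).1 hm
  haveI := hi; haveI := him
  obtain ⟨r, i', p, -, hmr, hi'⟩ := MaxTorusRank.exists_maxTorus_ge G i
  obtain ⟨g, f, -⟩ := MaxTorusRank.exists_conj hT hi'
  let e := Scheme.homeoOfIso ((Over.forget _).mapIso f)
  refine RedRank.has_of_torus (𝟙 T) hT.2.2.1 ?_
  refine le_trans ?_ (IsHomeomorph.topologicalKrullDim_eq e e.isHomeomorph).ge
  show (m : WithBot ℕ∞) ≤ topologicalKrullDim ↥(sp k (RedRank.TA k r)).left
  rw [RedRank.topologicalKrullDim_sp_TA]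
  exact_mod_cast hmr

/-- Maximal tori over an algebraically closed field are maximal on geometric fibres. -/
theorem isMaximalTorus_of_maxTorus {iT : T ⟶ G} (hT : AGF.IsMaxTorus iT) : Red.IsMaximalTorus iT := by
  haveI := hT.1; haveI := hT.2.1
  refine MaxTorusRank.isMaximalTorus_of_forall hT.2.2.1 fun s m hm => MaxTorusRank.has_bc _ (has_of_maxTorus hT ?_)
  let q := Red.geomPt s
  haveI := MaxTorusRank.isIso_geomPt s
  have h1 := (MaxTorusRank.has_bc_bc_iff G q (inv q) m).1 (MaxTorusRank.has_bc (inv q) hm)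
  rw [IsIso.inv_hom_id] at h1
  obtain ⟨i, hi, him⟩ := h1
  haveI := hi; haveI := him
  obtain ⟨e, he⟩ := exists_bc_id G
  haveI := he
  exact ⟨i ≫ e.hom, inferInstance, inferInstance⟩

/-- The centralizer of a maximal torus: smooth, connected, solvable, with the torus central and maximal. -/
theorem exists_cartan [ConnectedSpace G.left] {iT : T ⟶ G} (hT : AGF.IsMaxTorus iT) :
    ∃ (C : Over (Spec (CommRingCat.of k))) (_ : GrpObj C) (c : C ⟶ G), Red.IsCentralizerOf iT c ∧
      IsClosedImmersion c.left ∧ Smooth C.hom ∧ ConnectedSpace C.left ∧ Red.IsSolvableGrp C := by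
  haveI := hT.1; haveI := hT.2.1
  obtain ⟨r, v, hv, hv', -⟩ := RedRank.exists_torus_rank hT.2.2.1
  haveI : IsIso v.inv.left := inferInstanceAs (IsIso ((Over.forget _).map v.inv))
  haveI : LocallyOfFiniteType T.hom := by
    haveI : LocallyOfFiniteType (sp k (RedRank.TA k r)).hom := by
      show LocallyOfFiniteType (Spec.map (CommRingCat.ofHom (algebraMap k (RedRank.TA k r))))
      rw [HasRingHomProperty.Spec_iff (P := @LocallyOfFiniteType)]
      exact RingHom.finiteType_algebraMap.2 inferInstance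
    rw [← Over.w v.inv]; infer_instance
  haveI : IsAffine T.left := by
    haveI : IsAffine (sp k (RedRank.TA k r)).left :=
      inferInstanceAs (IsAffine (Spec (CommRingCat.of (RedRank.TA k r))))
    exact IsAffine.of_isIso v.inv.left
  haveI : IsClosedImmersion iT.left := GrpHom.isClosedImmersion_of_mono iT
  obtain ⟨⟨C, _, c, hc, hcl, hsm⟩, -⟩ :=
    S3006.result (Spec (CommRingCat.of k)) G T iT ‹_› hT.2.2.1
  obtain ⟨-, hconn, n, hn⟩ := S3909.result k G T iT (isMaximalTorus_of_maxTorus hT) C c hc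
  refine ⟨C, _, c, hc, hcl, hsm, hconn, n, fun X => le_bot_iff.1 ?_⟩
  rw [← (Subgroup.lowerCentralSeries_eq_bot_iff_upperCentralSeries_eq_top.2 (hn X))]
  exact Subgroup.derived_le_lower_central n

/-- A homomorphism from a group of multiplicative type commuting with a maximal torus factors through it. -/
theorem exists_factor_field [ConnectedSpace G.left] {iT : T ⟶ G} (hT : AGF.IsMaxTorus iT)
    {H : Over (Spec (CommRingCat.of k))} [GrpObj H] (hH : SGA3x.IsMultTypeFT H) (u : H ⟶ G) [IsMonHom u]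
    (hu : ∀ (X : Over (Spec (CommRingCat.of k))) (x : X ⟶ H) (t : X ⟶ T),
      (x ≫ u) * (t ≫ iT) = (t ≫ iT) * (x ≫ u)) :
    ∃ w : H ⟶ T, w ≫ iT = u := by
  haveI := hT.1; haveI := hT.2.1
  obtain ⟨C, _, c, hc, hcl, hsm, hconn, hsol⟩ := exists_cartan hT
  haveI := hcl; haveI := hsm; haveI := hconn
  haveI := hc.1; haveI := hc.2.1
  haveI : IsAffine C.left := isAffine_of_isAffineHom c.left
  obtain ⟨uC, huC⟩ := (hc.2.2 H u).2 fun X x t => hu X x t
  obtain ⟨tC, htC⟩ := (hc.2.2 T iT).2 fun X x t => by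
    rw [← MonObj.mul_comp, ← MonObj.mul_comp, mul_comm_torus hT.2.2.1]
  haveI : IsMonHom (uC ≫ c) := huC ▸ inferInstance
  haveI : IsMonHom (tC ≫ c) := htC ▸ inferInstance
  haveI : IsMonHom uC := DiagRep.isMonHom_of_comp_mono uC c
  haveI : IsMonHom tC := DiagRep.isMonHom_of_comp_mono tC c
  haveI : Mono (tC ≫ c) := htC ▸ inferInstance
  haveI : Mono tC := mono_of_mono tC c
  have htmax : AGF.IsMaxTorus tC := ⟨inferInstance, inferInstance, hT.2.2.1, fun T' _ j _ _ f hT' hf =>
    hT.2.2.2 T' (j ≫ c) f hT' (by rw [← Category.assoc, hf, htC])⟩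
  have hcent : ∀ (X : Over (Spec (CommRingCat.of k))) (t : X ⟶ T) (g : X ⟶ C), (t ≫ tC) * g = g * (t ≫ tC) :=
    fun X t g => by
      rw [← cancel_mono c, MonObj.mul_comp, MonObj.mul_comp, Category.assoc, htC]
      have h := (hc.2.2 X (g ≫ c)).1 ⟨g, rfl⟩ X (𝟙 X) t
      rw [Category.id_comp] at h
      exact h.symm
  obtain ⟨π, hπ, -, hfix⟩ := exists_retraction hsol htmax hcent
  obtain ⟨M, _, v, hv, hv', -⟩ := exists_diag_of_multType hH
  haveI := hv; haveI := hπ
  have h := hfix M (v.hom ≫ uC)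
  refine ⟨uC ≫ π, ?_⟩
  rw [← htC, ← huC, ← Category.assoc (uC ≫ π)]
  refine congrArg (· ≫ c) ?_
  rw [← cancel_epi v.hom]
  simpa using h

end Groth.Agent.CartanMult
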