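import Groth.Agent.CartanMultLib.Central
import Groth.Agent.CentreRedLib.Main
import Groth.Agent.DiagHopfLib.FieldQuot
import Groth.Agent.WeilResLib.Transporter
import Groth.Agent.S3938

/-!
# The intersection of the maximal tori
-/

set_option autoImplicit false
set_option linter.style.haveILetI false
set_option backward.isDefEq.respectTransparency false

noncomputable section

universe u

open CategoryTheory CategoryTheory.Limits MonoidalCategory CartesianMonoidalCategory AlgebraicGeometry CoactBr WithConv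
open scoped MonObj TensorProduct

attribute [-instance] CategoryTheory.Hom.commGroup

namespace Groth.Agent.CartanMult

open Groth.Agent.BorelLib

attribute [local instance] CoactBr.braidedAlgSpecOf pTop pTopTensor CentreRed.algΓ

variable {k : Type u} [Field k]

theorem subsingleton_hom_sp (X : Over (Spec (CommRingCat.of k))) : Subsingleton (X ⟶ sp k k) := by
  refine ⟨fun a b => Over.OverMorphism.ext ?_⟩
  haveI : IsIso (sp k k).hom := by
    show IsIso (Spec.map (CommRingCat.ofHom (algebraMap k k)))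
    haveI : IsIso (CommRingCat.ofHom (algebraMap k k)) := by
      rw [show CommRingCat.ofHom (algebraMap k k) = 𝟙 (CommRingCat.of k) from rfl]
      infer_instance
    infer_instance
  exact (cancel_mono (sp k k).hom).1 ((Over.w a).trans (Over.w b).symm)

theorem lift_ofConv {R A : Type u} [CommRing R] [Algebra k R] [CommRing A] [Bialgebra k A] (a b : A →ₐ[k] R) (z : A) :
    (toConv a * toConv b).ofConv z =
      Algebra.TensorProduct.lift a b (fun _ _ => Commute.all _ _) (CoalgebraStruct.comul (R := k) z) := by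
  show (toConv a * toConv b) z = _
  rw [AlgHom.convMul_apply]

/-- An element of `R ⊗ A` killed by many points of a domain is zero. -/
theorem eq_zero_of_points [IsAlgClosed k] {R A : Type u} [CommRing R] [Algebra k R] [CommRing A] [Algebra k A]
    [Algebra.FiniteType k A] [IsDomain A] {f : A} (hf : f ≠ 0) (e : R ⊗[k] A)
    (h : ∀ x : Pt k A, x.ofConv f ≠ 0 →
      Algebra.TensorProduct.lift (AlgHom.id k R) ((Algebra.ofId k R).comp x.ofConv) (fun _ _ => Commute.all _ _) e = 0) :
    e = 0 := by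
  classical
  let b := Module.Free.chooseBasis k R
  obtain ⟨c, hc⟩ := TensorProduct.eq_repr_basis_left b e
  have hx : ∀ x : Pt k A, x.ofConv f ≠ 0 → ∀ i, x.ofConv (c i) = 0 := by
    intro x hx i
    have h1 := h x hx
    rw [← hc] at h1
    simp only [Finsupp.sum, map_sum, Algebra.TensorProduct.lift_tmul, AlgHom.id_apply, AlgHom.comp_apply,
      Algebra.ofId_apply] at h1
    have h2 : Finsupp.linearCombination k b (c.mapRange x.ofConv (map_zero _)) = 0 := by
      rw [Finsupp.linearCombination_apply, Finsupp.sum_mapRange_index (by simp), Finsupp.sum]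
      refine Eq.trans (Finset.sum_congr rfl fun j _ => ?_) h1
      rw [Algebra.smul_def, mul_comm]
    have h3 := DFunLike.congr_fun (b.linearIndependent h2 : c.mapRange x.ofConv (map_zero _) = 0) i
    simpa using h3
  have hc0 : c = 0 := Finsupp.ext fun i => by
    have : c i * f = 0 := eq_zero_of_forall (k := k) fun x => by
      by_cases hxf : x.ofConv f = 0
      · simp [hxf]
      · simp [hx x hxf i]
    exact (mul_eq_zero.1 this).resolve_right hf
  rw [← hc, hc0, Finsupp.sum_zero_index]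

variable [IsAlgClosed k]

theorem mono_conjBy {G H : Over (Spec (CommRingCat.of k))} [GrpObj G] (a : 𝟙_ (Over (Spec (CommRingCat.of k))) ⟶ G)
    (i : H ⟶ G) [Mono i] : Mono (AGF.conjBy a i) := by
  rw [DiagRep.conjBy_eq_comp]
  infer_instance

/-- Conjugates of maximal tori are maximal tori. -/
theorem isMaxTorus_conjBy {G T : Over (Spec (CommRingCat.of k))} [GrpObj G] [GrpObj T] {iT : T ⟶ G}
    (hT : AGF.IsMaxTorus iT) (a : 𝟙_ (Over (Spec (CommRingCat.of k))) ⟶ G) :
    AGF.IsMaxTorus (AGF.conjBy a iT) := by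
  haveI := hT.1; haveI := hT.2.1
  haveI := DiagRep.isMonHom_conjBy a
  haveI := mono_conjBy a iT
  haveI : IsMonHom (AGF.conjBy a iT) := by rw [DiagRep.conjBy_eq_comp]; infer_instance
  refine ⟨inferInstance, inferInstance, hT.2.2.1, fun T' _ j _ _ f hT' hf => ?_⟩
  haveI : IsMonHom (asIso (AGF.conjBy a (𝟙 G))).hom := inferInstanceAs (IsMonHom (AGF.conjBy a (𝟙 G)))
  haveI : IsMonHom (inv (AGF.conjBy a (𝟙 G))) := inferInstanceAs (IsMonHom (asIso (AGF.conjBy a (𝟙 G))).inv)
  exact hT.2.2.2 T' (j ≫ inv (AGF.conjBy a (𝟙 G))) f hT' (by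
    rw [← Category.assoc, hf, DiagRep.conjBy_eq_comp, Category.assoc, IsIso.hom_inv_id, Category.comp_id])

variable {G : Over (Spec (CommRingCat.of k))} [GrpObj G] [Smooth G.hom] [IsAffine G.left]

/-- A point in all maximal tori. -/
def InAll {X : Over (Spec (CommRingCat.of k))} (g : X ⟶ G) : Prop :=
  ∀ (T : Over (Spec (CommRingCat.of k))) [GrpObj T] (i : T ⟶ G), Red.IsMaximalTorus i → ∃ t : X ⟶ T, t ≫ i = g

/-- A point in all maximal tori commutes with everything. -/
theorem mul_comm_of_inAll [ConnectedSpace G.left] {X : Over (Spec (CommRingCat.of k))} (g : X ⟶ G) (hg : InAll g)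
    (h : X ⟶ G) : g * h = h * g := by
  classical
  haveI : IsAffineHom G.hom := inferInstance
  obtain ⟨A, _, _, v, hv, hft, hred⟩ := exists_setup G
  haveI := hv; haveI := hft; haveI := hred
  haveI : IsMonHom v.inv := inferInstance
  haveI hdom : IsDomain A := by
    haveI := CommSubLib.geometricallyIrreducible_of_connected G
    haveI : IrreducibleSpace ↥G.left := GeometricallyIrreducible.geometrically_irreducibleSpace (f := G.hom)
      (𝟙 _) (𝟙 G.left) G.hom (IsPullback.of_horiz_isIso ⟨by simp⟩)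
    haveI : IsIso v.hom.left := (Over.forget _).map_isIso v.hom
    haveI : AlgebraicGeometry.IsReduced G.left := AlgSpLib.isReduced_of_smooth G.hom
    haveI : IsIntegral G.left := isIntegral_of_irreducibleSpace_of_isReduced _
    haveI : IsIso v.inv.left := (Over.forget _).map_isIso v.inv
    haveI : IsIntegral (Spec (CommRingCat.of A)) := IsIntegral.of_isIso (X := G.left) v.inv.left
    exact (affine_isIntegral_iff (CommRingCat.of A)).1 inferInstance
  -- a maximal torus and the open set covered by the conjugates of its centralizer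
  obtain ⟨n, hn⟩ := MaxTorusRank.exists_has G
  obtain ⟨i₀, hi₀, hi₀m⟩ := (RedRank.has_iff G n).1 hn
  haveI := hi₀; haveI := hi₀m
  obtain ⟨r, iT, -, -, -, hT⟩ := MaxTorusRank.exists_maxTorus_ge G i₀
  obtain ⟨C, _, c, hc, -, -, -, -⟩ := exists_cartan hT
  obtain ⟨U, hU, hUconj⟩ := S3938.result k G _ iT hT C c hc
  obtain ⟨w, hw⟩ := hU
  obtain ⟨p, hp⟩ : ∃ p, v.hom.left p = w := by
    refine ⟨v.inv.left w, ?_⟩
    rw [← Scheme.Hom.comp_apply, ← Over.comp_left, v.inv_hom_id]
    rfl
  obtain ⟨_, ⟨f, rfl⟩, hpf, hfU⟩ := PrimeSpectrum.isTopologicalBasis_basic_opens.exists_subset_of_mem_open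
    (show p ∈ v.hom.left ⁻¹' (U : Set ↥G.left) from Set.mem_preimage.2 (hp.symm ▸ hw))
    (U.isOpen.preimage v.hom.left.continuous)
  have hf : f ≠ 0 := fun h0 => (PrimeSpectrum.mem_basicOpen f p).1 hpf (h0 ▸ p.asIdeal.zero_mem)
  have hcomm : ∀ x : Pt k A, x.ofConv f ≠ 0 →
      g * (toUnit X ≫ ptEquiv v x) = (toUnit X ≫ ptEquiv v x) * g := by
    intro x hx
    obtain ⟨a, y, hay⟩ := hUconj (ptEquiv v x) (by
      show AVAmpleLib.pt (ptEquiv v x) ∈ U
      rw [pt_ptEquiv]
      exact hfU (by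
        show toP x ∈ PrimeSpectrum.basicOpen f
        rw [PrimeSpectrum.mem_basicOpen, toP_asIdeal, RingHom.mem_ker]
        exact hx))
    obtain ⟨t, ht⟩ := hg _ (AGF.conjBy a iT) (isMaximalTorus_of_maxTorus (isMaxTorus_conjBy hT a))
    have hct := (hc.2.2 X ((toUnit X ≫ y) ≫ c)).1 ⟨_, rfl⟩ X (𝟙 X) t
    rw [Category.id_comp] at hct
    rw [← ht, ← hay]
    have hu : t ≫ toUnit _ = toUnit X := toUnit_unique _ _
    simp only [AGF.conjBy, MonObj.comp_mul, GrpObj.comp_inv]
    rw [← Category.assoc t (toUnit _), hu, ← Category.assoc (toUnit X) y c]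
    generalize toUnit X ≫ a = α at *
    generalize (toUnit X ≫ y) ≫ c = β at *
    generalize t ≫ iT = τ at *
    calc α * τ * α⁻¹ * (α * β * α⁻¹) = α * (τ * β) * α⁻¹ := by group
      _ = α * (β * τ) * α⁻¹ := by rw [hct]
      _ = _ := by group
  let R : Type u := Γ(X.left, ⊤)
  let φ := CentreRed.fn (g ≫ v.inv)
  let ψh := CentreRed.fn (h ≫ v.inv)
  let e : A → R ⊗[k] A := fun z =>
    Algebra.TensorProduct.map φ (AlgHom.id k A) (CoalgebraStruct.comul (R := k) z) -
      Algebra.TensorProduct.map φ (AlgHom.id k A)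
        (Algebra.TensorProduct.comm k A A (CoalgebraStruct.comul (R := k) z))
  have hev : ∀ (ψ : A →ₐ[k] R) (z : A),
      Algebra.TensorProduct.lift (AlgHom.id k R) ψ (fun _ _ => Commute.all _ _) (e z) =
        (toConv φ * toConv ψ).ofConv z - (toConv ψ * toConv φ).ofConv z := by
    intro ψ z
    simp only [e, map_sub, lift_ofConv]
    congr 1 <;> generalize CoalgebraStruct.comul (R := k) z = t <;>
      induction t using TensorProduct.induction_on with
      | zero => simp
      | add x y hx hy => simp only [map_add, hx, hy]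
      | tmul x y => simp [mul_comm] <;> rfl
  have he : ∀ z, e z = 0 := fun z => by
    refine eq_zero_of_points hf (e z) fun x hx => ?_
    have h1 : CentreRed.fn ((toUnit X ≫ ptEquiv v x) ≫ v.inv) = (Algebra.ofId k R).comp x.ofConv := by
      refine CentreRed.fn_unique ?_
      rw [CentreRed.toSp_fn, CoactBr.pt_comp]
      show (toUnit X ≫ (Groth.Agent.HopfPoints.exists_unit_hom.some ≫ CoactBr.pt x.ofConv ≫ v.hom)) ≫ v.inv = _
      simp only [Category.assoc, v.hom_inv_id, Category.comp_id]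
      rw [← Category.assoc, ← Category.assoc]
      congr 1
      exact (subsingleton_hom_sp X).elim _ _
    have h2 : (g ≫ v.inv) * ((toUnit X ≫ ptEquiv v x) ≫ v.inv) =
        ((toUnit X ≫ ptEquiv v x) ≫ v.inv) * (g ≫ v.inv) := by
      rw [← MonObj.mul_comp, ← MonObj.mul_comp, hcomm x hx]
    have h3 := congrArg CentreRed.fn h2
    rw [CentreRed.fn_mul, CentreRed.fn_mul, h1] at h3
    rw [hev, DFunLike.congr_fun h3 z, sub_self]
  refine (cancel_mono v.inv).1 ?_
  rw [MonObj.mul_comp, MonObj.mul_comp, ← CentreRed.toSp_fn ((g ≫ v.inv) * (h ≫ v.inv)),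
    ← CentreRed.toSp_fn ((h ≫ v.inv) * (g ≫ v.inv))]
  refine congrArg (fun ψ => CentreRed.toSp X ≫ CoactBr.pt ψ) (AlgHom.ext fun z => ?_)
  rw [CentreRed.fn_mul, CentreRed.fn_mul]
  have h4 := hev ψh z
  rw [he z, map_zero] at h4
  exact sub_eq_zero.1 h4.symm

/-- The points in all maximal tori form a central subgroup of multiplicative type. -/
theorem exists_inter [ConnectedSpace G.left] :
    ∃ (N : Over (Spec (CommRingCat.of k))) (_ : GrpObj N) (j : N ⟶ G), IsMonHom j ∧ SGA3x.IsMultTypeFT N ∧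
      (∀ {X : Over (Spec (CommRingCat.of k))} (g : X ⟶ G), (∃ z, z ≫ j = g) ↔ InAll g) ∧
      ∀ (X : Over (Spec (CommRingCat.of k))) (x : X ⟶ N) (g : X ⟶ G), (x ≫ j) * g = g * (x ≫ j) := by
  classical
  haveI : IsAffineHom G.hom := inferInstance
  have hcl : ∀ (T : Over (Spec (CommRingCat.of k))) [GrpObj T] (i : T ⟶ G), Red.IsMaximalTorus i →
      IsClosedImmersion i.left := fun T _ i hi => by
    haveI := hi.1; haveI := hi.2.1
    exact Transporter.isClosedImmersion_of_mono (RedRank.locally_of_isTorus hi.2.2.1) ‹IsAffineHom G.hom› i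
  let I : G.left.IdealSheafData := sSup {J | ∃ (T : Over (Spec (CommRingCat.of k))) (_ : GrpObj T) (i : T ⟶ G),
    Red.IsMaximalTorus i ∧ i.left.ker = J}
  let N : Over (Spec (CommRingCat.of k)) := Over.mk (I.subschemeι ≫ G.hom)
  let j : N ⟶ G := Over.homMk I.subschemeι
  haveI : IsClosedImmersion j.left := inferInstanceAs (IsClosedImmersion I.subschemeι)
  haveI : Mono j := Over.mono_of_mono_left j
  have hiff : ∀ {X : Over (Spec (CommRingCat.of k))} (g : X ⟶ G), (∃ z, z ≫ j = g) ↔ InAll g := by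
    intro X g
    constructor
    · rintro ⟨z, rfl⟩ T _ i hi
      haveI := hcl T i hi
      have h1 : i.left.ker ≤ (z ≫ j).left.ker := by
        refine le_trans ?_ (Scheme.Hom.le_ker_comp z.left I.subschemeι)
        rw [Scheme.IdealSheafData.ker_subschemeι]
        exact le_sSup ⟨T, inferInstance, i, hi, rfl⟩
      refine ⟨Over.homMk (IsClosedImmersion.lift i.left (z ≫ j).left h1) ?_,
        Over.OverMorphism.ext (IsClosedImmersion.lift_fac _ _ h1)⟩
      rw [← Over.w i, IsClosedImmersion.lift_fac_assoc]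
      exact Over.w (z ≫ j)
    · intro hg
      have h1 : I.subschemeι.ker ≤ g.left.ker := by
        rw [Scheme.IdealSheafData.ker_subschemeι]
        refine sSup_le ?_
        rintro _ ⟨T, _, i, hi, rfl⟩
        obtain ⟨t, rfl⟩ := hg T i hi
        exact Scheme.Hom.le_ker_comp t.left i.left
      refine ⟨Over.homMk (IsClosedImmersion.lift I.subschemeι g.left h1) ?_,
        Over.OverMorphism.ext (IsClosedImmersion.lift_fac _ _ h1)⟩
      show _ ≫ I.subschemeι ≫ G.hom = _
      rw [IsClosedImmersion.lift_fac_assoc]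
      exact Over.w g
  obtain ⟨Igrp, hjm⟩ := WeilRes.exists_grpObj_of_pred j (fun {X} g => InAll g) (fun {X} g => hiff g)
    (fun T _ i hi => ⟨1, by haveI := hi.1; rw [MonObj.one_comp]⟩)
    (fun a b ha hb T _ i hi => by
      haveI := hi.1
      obtain ⟨s, rfl⟩ := ha T i hi
      obtain ⟨t, rfl⟩ := hb T i hi
      exact ⟨s * t, MonObj.mul_comp s t i⟩)
    (fun a ha T _ i hi => by
      haveI := hi.1
      obtain ⟨s, rfl⟩ := ha T i hi
      exact ⟨s⁻¹, GrpObj.inv_comp s i⟩)
  letI := Igrp
  haveI := hjm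
  refine ⟨N, Igrp, j, hjm, ?_, fun g => hiff g, fun X x g => mul_comm_of_inAll _ ((hiff _).1 ⟨x, rfl⟩) g⟩
  -- `N` is a closed subgroup of a torus
  obtain ⟨n, hn⟩ := MaxTorusRank.exists_has G
  obtain ⟨i₀, hi₀, hi₀m⟩ := (RedRank.has_iff G n).1 hn
  haveI := hi₀; haveI := hi₀m
  obtain ⟨r, iT, -, -, -, hT⟩ := MaxTorusRank.exists_maxTorus_ge G i₀
  haveI := hT.1; haveI := hT.2.1
  obtain ⟨t, ht⟩ := (hiff j).1 ⟨𝟙 N, Category.id_comp j⟩ _ iT (isMaximalTorus_of_maxTorus hT)
  haveI : IsMonHom (t ≫ iT) := ht ▸ inferInstance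
  haveI : IsMonHom t := DiagRep.isMonHom_of_comp_mono t iT
  haveI : IsClosedImmersion (t.left ≫ iT.left) := by
    rw [← Over.comp_left, ht]; infer_instance
  haveI : IsClosedImmersion t.left := IsClosedImmersion.of_comp t.left iT.left
  haveI : IsAffine N.left := isAffine_of_isAffineHom j.left
  obtain ⟨B, _, _, e, he, he'⟩ := DeligneKillLib.exists_sp N
  haveI := he; haveI := he'
  obtain ⟨φ, hφ⟩ := DiagRep.exists_pt (R := k) (A := RedRank.TA k r) (C := B) (e.hom ≫ t)
  haveI : IsMonHom (CoactBr.pt φ) := hφ ▸ inferInstanceAs (IsMonHom (e.hom ≫ t))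
  have hsurj : Function.Surjective φ := by
    refine DiagRep.surjective_of_isClosedImmersion φ ?_
    rw [← hφ, Over.comp_left]
    haveI : IsIso e.hom.left := (Over.forget _).map_isIso e.hom
    exact inferInstanceAs (IsClosedImmersion (e.hom.left ≫ t.left))
  let φb : RedRank.TA k r →ₐc[k] B := BialgHom.ofAlgHom φ (DiagRep.counit_comp_of_isMonHom φ)
    (AlgHom.ext fun z => (comul_apply_of_isMonHom φ z).symm)
  haveI : Algebra.FiniteType k B := Algebra.FiniteType.of_surjective φ hsurj
  have hdiag : HopfRep.IsDiagonalizable k B := DiagHopf.isDiagonalizable_of_surjective φb hsurj (by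
    rw [HopfRep.IsDiagonalizable, eq_top_iff, ← (DiagRep.monoidAlgebraBasis k (Fin r → ℤ)).e.span_eq]
    refine Submodule.span_mono ?_
    rintro _ ⟨m, rfl⟩
    exact ⟨(DiagRep.monoidAlgebraBasis k (Fin r → ℤ)).counit_e m, (DiagRep.monoidAlgebraBasis k (Fin r → ℤ)).comul_e m⟩)
  obtain ⟨M, _, hM, ⟨E⟩⟩ := CentreRed.exists_glBasis hdiag
  obtain ⟨u, hu, hu'⟩ := TorusField.exists_iso_of_basis (DiagRep.monoidAlgebraBasis k M) E
  obtain ⟨w, hw, hw'⟩ := TorusField.exists_DS_iso k M
  haveI : IsMonHom e.symm.hom := inferInstanceAs (IsMonHom e.inv)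
  haveI : IsMonHom (e.symm ≪≫ u ≪≫ w).hom := by dsimp only [Iso.trans_hom]; infer_instance
  exact CentreRed.isMultTypeFT_of_iso N hM (e.symm ≪≫ u ≪≫ w)

omit [IsAlgClosed k] in
/-- The universal property of a largest central subgroup of multiplicative type, over the base itself. -/
theorem exists_factor_through {G Z N : Over (Spec (CommRingCat.of k))} [GrpObj G] [GrpObj Z] [GrpObj N] {z : Z ⟶ G}
    (huniv : ∀ (S' : Scheme.{u}) (f : S' ⟶ (Spec (CommRingCat.of k))) (H : Over S') [GrpObj H] (v : H ⟶ Red.bc f G)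
      [IsMonHom v], SGA3x.IsMultTypeFT H →
      (∀ (X : Over S') (x : X ⟶ H) (g : X ⟶ Red.bc f G), (x ≫ v) * g = g * (x ≫ v)) →
      ∃ w : H ⟶ Red.bc f Z, w ≫ (Over.pullback f).map z = v)
    (hN : SGA3x.IsMultTypeFT N) (j : N ⟶ G) [IsMonHom j]
    (hjc : ∀ (X : Over (Spec (CommRingCat.of k))) (x : X ⟶ N) (g : X ⟶ G), (x ≫ j) * g = g * (x ≫ j)) :
    ∃ w : N ⟶ Z, w ≫ z = j := by
  let eG : Red.bc (𝟙 (Spec (CommRingCat.of k))) G ≅ G := (Over.pullbackId (X := Spec (CommRingCat.of k))).app G
  haveI : IsMonHom eG.hom := isMonHom_pullbackId G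
  haveI : IsMonHom eG.inv := inferInstance
  obtain ⟨w, hw⟩ := huniv _ (𝟙 _) N (j ≫ eG.inv) hN fun X x g => (cancel_mono eG.hom).1 (by
    rw [MonObj.mul_comp, MonObj.mul_comp, Category.assoc, Category.assoc, eG.inv_hom_id, Category.comp_id]
    exact hjc X x (g ≫ eG.hom))
  refine ⟨w ≫ ((Over.pullbackId (X := Spec (CommRingCat.of k))).app Z).hom, ?_⟩
  have nat : (Over.pullback (𝟙 _)).map z ≫ eG.hom =
      ((Over.pullbackId (X := Spec (CommRingCat.of k))).app Z).hom ≫ z :=
    (Over.pullbackId (X := Spec (CommRingCat.of k))).hom.naturality z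
  rw [Category.assoc, ← nat, ← Category.assoc, hw, Category.assoc, eG.inv_hom_id, Category.comp_id]

end Groth.Agent.CartanMult
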