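import Groth.Agent.CartanMultLib.Chars
import Groth.Agent.BorelLib.Facts
import Groth.Agent.RedRankLib.Fam

/-!
# A connected solvable group with central maximal torus retracts onto it
-/

set_option autoImplicit false
set_option linter.style.haveILetI false
set_option backward.isDefEq.respectTransparency false

noncomputable section

universe u

open CategoryTheory CategoryTheory.Limits MonoidalCategory CartesianMonoidalCategory AlgebraicGeometry WithConv CoactBr
open scoped MonObj TensorProduct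

attribute [-instance] CategoryTheory.Hom.commGroup

namespace Groth.Agent.CartanMult

open Groth.Agent.BorelLib

attribute [local instance] CoactBr.braidedAlgSpecOf pTop pTopTensor

variable {k : Type u} [Field k]

theorem comul_apply_of_isMonHom {A B : Type u} [CommRing A] [HopfAlgebra k A] [CommRing B] [HopfAlgebra k B]
    (φ : A →ₐ[k] B) [IsMonHom (CoactBr.pt φ)] (z : A) :
    CoalgebraStruct.comul (R := k) (φ z) = Algebra.TensorProduct.map φ φ (CoalgebraStruct.comul z) := by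
  have h := congrArg (fun f : WithConv (A →ₐ[k] B ⊗[k] B) => f.ofConv z) (DiagRep.comul_comp_of_isMonHom φ)
  simp only [AlgHom.convMul_apply] at h
  refine h.trans ?_
  generalize CoalgebraStruct.comul (R := k) z = t
  induction t using TensorProduct.induction_on with
  | zero => simp
  | add a b ha hb => simp only [map_add, ← ha, ← hb]
  | tmul a b => simp [Algebra.TensorProduct.tmul_mul_tmul]

variable [IsAlgClosed k]

/-- A connected solvable group with central maximal torus retracts onto it; the retraction sees every diagonalizable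
subgroup. -/
theorem exists_retraction {C T : Over (Spec (CommRingCat.of k))} [GrpObj C] [GrpObj T] [IsAffine C.left]
    [Smooth C.hom] [ConnectedSpace C.left] (hsol : Red.IsSolvableGrp C) {iT : T ⟶ C} (hT : AGF.IsMaxTorus iT)
    (hc : ∀ (X : Over (Spec (CommRingCat.of k))) (t : X ⟶ T) (g : X ⟶ C), (t ≫ iT) * g = g * (t ≫ iT)) :
    ∃ π : C ⟶ T, IsMonHom π ∧ iT ≫ π = 𝟙 T ∧
      ∀ (M : Type) [AddCommGroup M] (u : sp k (MonoidAlgebra k (Multiplicative M)) ⟶ C) [IsMonHom u],
        u ≫ π ≫ iT = u := by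
  classical
  obtain ⟨A, _, _, v, hv, hA, hred⟩ := exists_setup C
  haveI := hv; haveI := hA; haveI := hred
  haveI := hT.1; haveI := hT.2.1
  obtain ⟨hci, -⟩ := facts_torus v (iT := iT) hT.2.1 hT.2.2.1
  haveI := hci
  have hconn := isPreconnected_univ_of_connected v
  have hKc : IsClosed ((⊤ : Subgroup (Pt k A)) : Set (Pt k A)) := by rw [Subgroup.coe_top]; exact isClosed_univ
  have hK : _root_.IsPreconnected ((⊤ : Subgroup (Pt k A)) : Set (Pt k A)) := by rwa [Subgroup.coe_top]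
  have hsol' : IsSol (⊤ : Subgroup (Pt k A)) :=
    (isSol_ptsSub v (i := 𝟙 C) hsol).mono fun x _ => (mem_ptsSub v).2 ⟨ptEquiv v x, Category.comp_id _⟩
  obtain ⟨a, D, hagl, hU, hkey⟩ := exists_chars hconn hsol'
  obtain ⟨r, w, hw, hft, -⟩ := torus_facts hT.2.2.1
  haveI := hw
  haveI : IsMonHom w.inv := inferInstance
  obtain ⟨φT, hφT⟩ := DiagRep.exists_pt (R := k) (A := A) (C := Lr k r) (w.hom ≫ iT ≫ v.inv)
  haveI : IsMonHom v.inv := inferInstance
  haveI hφm : IsMonHom (CoactBr.pt φT) := hφT ▸ inferInstanceAs (IsMonHom (w.hom ≫ iT ≫ v.inv))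
  have hsurj : Function.Surjective φT := by
    refine DiagRep.surjective_of_isClosedImmersion φT ?_
    rw [← hφT]
    haveI : IsIso w.hom.left := inferInstanceAs (IsIso ((Over.forget _).map w.hom))
    haveI : IsIso v.inv.left := inferInstanceAs (IsIso ((Over.forget _).map v.inv))
    exact inferInstanceAs (IsClosedImmersion (w.hom.left ≫ iT.left ≫ v.inv.left))
  have hpts : ∀ x ∈ ptsSub v iT, ∃ y : Pt k (Lr k r), x = pull φT y := fun x hx => by
    obtain ⟨b, hb⟩ := (mem_ptsSub v).1 hx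
    refine ⟨(ptEquiv w).symm b, (ptEquiv v).injective ?_⟩
    rw [← hb]
    conv_lhs => rw [← (ptEquiv w).apply_symm_apply b]
    show (_ ≫ CoactBr.pt _ ≫ w.hom) ≫ iT = _ ≫ CoactBr.pt ((((ptEquiv w).symm b).ofConv).comp φT) ≫ v.hom
    rw [CoactBr.pt_comp, ← hφT]
    simp only [Category.assoc, v.inv_hom_id, Category.comp_id]
  -- every point is a point of the torus times a unipotent one
  obtain ⟨S, -, hS, hu, hdec, -⟩ := D.exists_torus_decomp hKc hK
  have hle : ptsSub v iT ≤ S := by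
    obtain ⟨g, -, hg⟩ := hu (ptsSub v iT) le_top (isTor_ptsSub v iT hT.2.2.1)
    refine fun x hx => hg (mem_conjSub.2 ?_)
    obtain ⟨b, hb⟩ := (mem_ptsSub v).1 hx
    have hcomm : x * g = g * x := (ptEquiv v).injective (by
      rw [map_mul, map_mul, ← hb]; exact hc _ b (ptEquiv v g))
    rwa [_root_.mul_assoc, hcomm, inv_mul_cancel_left]
  have hSeq : S = ptsSub v iT := (isMaxTor_ptsSub v hT).maximal S le_top hS hle
  have hdec' : ∀ x : Pt k A, ∃ y : Pt k (Lr k r), ∃ u ∈ D.U 1, x = pull φT y * u := fun x => by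
    obtain ⟨s, hs, hsu⟩ := hdec x trivial
    obtain ⟨y, rfl⟩ := hpts s (hSeq ▸ hs)
    exact ⟨y, _, hsu, (mul_inv_cancel_left _ _).symm⟩
  let Γ : Submonoid A := Submonoid.closure (Set.range a)
  have hΓgl : ∀ χ ∈ Γ, IsGroupLikeElem k χ := fun χ hχ => by
    induction hχ using Submonoid.closure_induction with
    | mem x hx => obtain ⟨j, rfl⟩ := hx; exact hagl j
    | one => exact IsGroupLikeElem.one
    | mul x y _ _ hx hy => exact hx.mul hy
  have hΓU : ∀ χ ∈ Γ, ∀ u ∈ D.U 1, u.ofConv χ = 1 := fun χ hχ u hu => by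
    induction hχ using Submonoid.closure_induction with
    | mem x hx => obtain ⟨j, rfl⟩ := hx; exact hU u hu j
    | one => exact map_one _
    | mul x y _ _ hx hy => rw [map_mul, hx, hy, _root_.one_mul]
  have hinj : ∀ χ ∈ Γ, ∀ χ' ∈ Γ, φT χ = φT χ' → χ = χ' := fun χ hχ χ' hχ' he => by
    refine sub_eq_zero.1 (eq_zero_of_forall (k := k) fun x => ?_)
    obtain ⟨y, u, hu, rfl⟩ := hdec' x
    rw [map_sub, sub_eq_zero, BorelLib.mul_ofConv, BorelLib.mul_ofConv, (hΓgl χ hχ).comul_eq_tmul_self,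
      (hΓgl χ' hχ').comul_eq_tmul_self, pair_tmul, pair_tmul, hΓU χ hχ u hu, hΓU χ' hχ' u hu, pull_apply,
      pull_apply, he]
  let φb : A →ₐc[k] Lr k r := BialgHom.ofAlgHom φT (DiagRep.counit_comp_of_isMonHom φT)
    (AlgHom.ext fun z => (comul_apply_of_isMonHom φT z).symm)
  let P : Submonoid (Multiplicative (Fin r → ℤ)) :=
    { carrier := {m | ∃ χ ∈ Γ, φT χ = MonoidAlgebra.single m 1}
      one_mem' := ⟨1, Γ.one_mem, by rw [map_one]; rfl⟩
      mul_mem' := fun {m m'} ⟨χ, hχ, e⟩ ⟨χ', hχ', e'⟩ => ⟨χ * χ', Γ.mul_mem hχ hχ', by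
        rw [map_mul, e, e', MonoidAlgebra.single_mul_single, _root_.one_mul]⟩ }
  have hgl : ∀ χ ∈ Γ, ∃ m, φT χ = MonoidAlgebra.single m 1 := fun χ hχ => by
    obtain ⟨m, hm⟩ := MonoidAlgebra.isGroupLikeElem_iff_mem_range_single_one.1 ((hΓgl χ hχ).map φb)
    exact ⟨m, hm.symm⟩
  have hP : ∀ m, m ∈ P := fun m => by
    obtain ⟨z, hz⟩ := hsurj (MonoidAlgebra.single m 1)
    refine hkey _ φT (comul_apply_of_isMonHom φT) P (fun j m' hm' => ?_) z m (by simp [hz])
    obtain ⟨m₀, hm₀⟩ := hgl (a j) (Submonoid.subset_closure ⟨j, rfl⟩)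
    by_cases h : m₀ = m'
    · exact ⟨a j, Submonoid.subset_closure ⟨j, rfl⟩, h ▸ hm₀⟩
    · simp [hm₀, Ne.symm h, h] at hm'
  choose g hg hge using hP
  let g₀ : Multiplicative (Fin r → ℤ) →* A :=
    { toFun := g
      map_one' := hinj _ (hg 1) _ Γ.one_mem (by rw [hge, map_one]; rfl)
      map_mul' := fun m m' => hinj _ (hg _) _ (Γ.mul_mem (hg m) (hg m')) (by
        rw [hge, map_mul, hge, hge, MonoidAlgebra.single_mul_single, _root_.one_mul]) }
  let ψ : Lr k r →ₐ[k] A := MonoidAlgebra.lift k A (Multiplicative (Fin r → ℤ)) g₀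
  have hψs : ∀ m, ψ (MonoidAlgebra.single m 1) = g m := fun m => by simp [ψ, g₀]
  haveI hψm : IsMonHom (CoactBr.pt ψ) := DiagRep.isMonHom_pt ψ
    (MonoidAlgebra.algHom_ext (fun m => by
      show CoalgebraStruct.counit (R := k) (ψ (MonoidAlgebra.single m 1)) = CoalgebraStruct.counit (R := k) (MonoidAlgebra.single m (1 : k))
      rw [hψs, (hΓgl _ (hg m)).counit_eq_one, MonoidAlgebra.counit_single]
      simp) (AlgHom.ext fun c => (AlgHom.commutes _ c).trans (AlgHom.commutes _ c).symm))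
    (MonoidAlgebra.algHom_ext (fun m => by
      show Algebra.TensorProduct.map ψ ψ (CoalgebraStruct.comul (R := k) (MonoidAlgebra.single m (1 : k))) =
        CoalgebraStruct.comul (R := k) (ψ (MonoidAlgebra.single m 1))
      rw [hψs, (hΓgl _ (hg m)).comul_eq_tmul_self, MonoidAlgebra.comul_single]
      simp [hψs, Algebra.TensorProduct.one_def]) (AlgHom.ext fun c => (AlgHom.commutes _ c).trans (AlgHom.commutes _ c).symm))
  have hret : φT.comp ψ = AlgHom.id k _ :=
    MonoidAlgebra.algHom_ext (fun m => by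
      show φT (ψ (MonoidAlgebra.single m 1)) = MonoidAlgebra.single m 1
      rw [hψs, hge]) (AlgHom.ext fun c => (AlgHom.commutes _ c).trans (AlgHom.commutes _ c).symm)
  let π : C ⟶ T := v.inv ≫ CoactBr.pt ψ ≫ w.hom
  haveI hπm : IsMonHom π := inferInstanceAs (IsMonHom (v.inv ≫ CoactBr.pt ψ ≫ w.hom))
  have hiπ : iT ≫ π = 𝟙 T := by
    have h1 : w.hom ≫ iT ≫ v.inv ≫ CoactBr.pt ψ = 𝟙 _ := by
      rw [← Category.assoc iT, ← Category.assoc w.hom, hφT, ← CoactBr.pt_comp, hret, CoactBr.pt_id]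
    rw [← cancel_epi w.hom, Category.comp_id]
    calc w.hom ≫ iT ≫ π = (w.hom ≫ iT ≫ v.inv ≫ CoactBr.pt ψ) ≫ w.hom := by simp [π]
      _ = w.hom := by rw [h1, Category.id_comp]
  refine ⟨π, hπm, hiπ, fun M _ u _ => ?_⟩
  let z : _ ⟶ C := u * (u ≫ π ≫ iT)⁻¹
  haveI hzm : IsMonHom z := RedRank.isMonHom_of_mul (X := sp k (MonoidAlgebra k (Multiplicative M))) (Y := C) z
    fun Z x y => by
      simp only [z, MonObj.comp_mul, GrpObj.comp_inv]
      rw [MultLift.hom_mul u, MultLift.hom_mul (u ≫ π ≫ iT), mul_inv_rev]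
      have hxc : ∀ g : Z ⟶ C, (x ≫ u ≫ π ≫ iT)⁻¹ * g = g * (x ≫ u ≫ π ≫ iT)⁻¹ := fun g => by
        have := hc Z ((x ≫ u ≫ π)⁻¹) g
        simpa [GrpObj.inv_comp] using this
      calc (x ≫ u) * (y ≫ u) * ((y ≫ u ≫ π ≫ iT)⁻¹ * (x ≫ u ≫ π ≫ iT)⁻¹)
          = (x ≫ u) * ((y ≫ u) * (y ≫ u ≫ π ≫ iT)⁻¹ * (x ≫ u ≫ π ≫ iT)⁻¹) := by
            simp only [_root_.mul_assoc]
        _ = (x ≫ u) * ((x ≫ u ≫ π ≫ iT)⁻¹ * ((y ≫ u) * (y ≫ u ≫ π ≫ iT)⁻¹)) := by rw [hxc]
        _ = _ := by rw [_root_.mul_assoc]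
  have hzπ : z ≫ π = 1 := by
    simp only [z, MonObj.mul_comp, GrpObj.inv_comp, Category.assoc, hiπ, Category.comp_id, mul_inv_cancel]
  obtain ⟨φ, hφ⟩ := DiagRep.exists_pt (R := k) (A := A) (C := MonoidAlgebra k (Multiplicative M)) (z ≫ v.inv)
  haveI : IsMonHom (CoactBr.pt φ) := hφ ▸ inferInstanceAs (IsMonHom (z ≫ v.inv))
  have hφψ : ∀ t, φ (ψ t) = algebraMap k _ (CoalgebraStruct.counit (R := k) t) := by
    have h1 : CoactBr.pt φ ≫ CoactBr.pt ψ = 1 := by
      rw [← hφ, Category.assoc, ← cancel_mono w.hom, MonObj.one_comp, Category.assoc, Category.assoc]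
      exact hzπ
    rw [← CoactBr.pt_comp, ← DiagRep.pt_one] at h1
    exact fun t => DFunLike.congr_fun (CoactBr.pt_injective h1) t
  have hφa : ∀ j, φ (a j) = 1 := fun j => by
    obtain ⟨m, hm⟩ := hgl (a j) (Submonoid.subset_closure ⟨j, rfl⟩)
    rw [hinj (a j) (Submonoid.subset_closure ⟨j, rfl⟩) (g m) (hg m) (by rw [hm, hge]), ← hψs, hφψ,
      MonoidAlgebra.counit_single]
    simp [MonoidAlgebra.one_def]
  have hφ1 : φ = (Algebra.ofId k _).comp (Bialgebra.counitAlgHom k A) := by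
    refine AlgHom.ext fun t => ?_
    have hb := hkey _ φ (comul_apply_of_isMonHom φ) ⊥ (fun j m hm => by
      rw [hφa j] at hm
      by_cases h : m = 1
      · simp [h]
      · simp [MonoidAlgebra.one_def, Ne.symm h, h] at hm) t
    have hc1 : φ t = MonoidAlgebra.single 1 ((φ t).coeff 1) := by
      ext m
      by_cases h : m = 1
      · simp [h]
      · have : (φ t).coeff m = 0 := not_not.1 fun hne => h (Submonoid.mem_bot.1 (hb m hne))
        simp [this, Ne.symm h, h]
    have he : CoalgebraStruct.counit (R := k) (φ t) = CoalgebraStruct.counit (R := k) t :=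
      DFunLike.congr_fun (DiagRep.counit_comp_of_isMonHom φ) t
    rw [hc1, MonoidAlgebra.counit_single] at he
    rw [AlgHom.comp_apply, hc1, show (Bialgebra.counitAlgHom k A) t = (φ t).coeff 1 by simpa using he.symm]
    simp [Algebra.ofId_apply, MonoidAlgebra.coe_algebraMap]
  have hz1 : z = 1 := by
    rw [← cancel_mono v.inv, hφ, hφ1, DiagRep.pt_one, MonObj.one_comp]
  exact (mul_inv_eq_one.1 hz1).symm

end Groth.Agent.CartanMult
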